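import Groth.Agent.GeomConn.Scheme
import Groth.Agent.SmoothReduced.Basic
import Groth.Agent.LinRed.Units
import Groth.Agent.LinRed.Connected
import Groth.Agent.HopfUnip.Base
import Groth.Agent.RegLocus.NormalConn
import Groth.Prelude.Def_SGA3b
import Mathlib.AlgebraicGeometry.Pullbacks

/-! # Morphisms from smooth connected unipotent groups to groups of multiplicative type are constant -/

set_option linter.all false
universe u

open CategoryTheory CategoryTheory.Limits AlgebraicGeometry
open scoped TensorProduct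

namespace Groth.Agent.UnipConst

variable {k : Type u} [Field k] {C : Type u} [CommRing C] [HopfAlgebra k C]

theorem connected_baseChange (L : Type u) [Field L] [Algebra k L]
    (hconn : ∀ e : C, IsIdempotentElem e → e = 0 ∨ e = 1) :
    ∀ e : L ⊗[k] C, IsIdempotentElem e → e = 0 ∨ e = 1 := by
  haveI : Nontrivial C := (Bialgebra.counitAlgHom k C).toRingHom.domain_nontrivial
  haveI : ConnectedSpace ↥(Spec (CommRingCat.of C)) :=
    (RegLocus.connectedSpace_iff_idempotent C).2 ⟨inferInstance, hconn⟩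
  let f : Spec (CommRingCat.of C) ⟶ Spec (CommRingCat.of k) := Spec.map (CommRingCat.ofHom (algebraMap k C))
  let s : Spec (CommRingCat.of k) ⟶ Spec (CommRingCat.of C) :=
    Spec.map (CommRingCat.ofHom (Bialgebra.counitAlgHom k C).toRingHom)
  have hs : s ≫ f = 𝟙 _ := by
    rw [← Spec.map_comp, ← Spec.map_id]
    congr 1
    ext z
    exact (Bialgebra.counitAlgHom k C).commutes z
  have hc := GeomConn.connectedSpace_bcTo (K := L) f s hs
  let e := pullbackSymmetry f (Spec.map (CommRingCat.ofHom (algebraMap k L))) ≪≫ pullbackSpecIso k L C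
  have : ConnectedSpace (PrimeSpectrum (L ⊗[k] C)) :=
    (Scheme.homeoOfIso e).surjective.connectedSpace (Scheme.homeoOfIso e).continuous
  exact ((RegLocus.connectedSpace_iff_idempotent _).1 this).2

theorem comp_eq_const [Algebra.FiniteType k C] [Algebra.FormallySmooth k C]
    (hconn : ∀ e : C, IsIdempotentElem e → e = 0 ∨ e = 1) (hU : HopfRep.IsUnipotent k C)
    {B : Type u} [CommRing B] [HopfAlgebra k B] (hB : SGA3b.IsMultTypeConst k B) (f : B →ₐ[k] C) (b : B) :
    f b = algebraMap k C (Bialgebra.counitAlgHom k C (f b)) := by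
  obtain ⟨R', _, _, hff, M, _, ⟨e⟩⟩ := hB
  haveI : Module.FaithfullyFlat k R' := hff
  haveI : Nontrivial R' := (FaithfulSMul.algebraMap_injective k R').nontrivial
  obtain ⟨m, hm⟩ := Ideal.exists_maximal R'
  obtain ⟨L, _, _, _, ⟨q⟩⟩ : ∃ (L : Type u) (_ : Field L) (_ : Algebra k L) (_ : IsAlgClosed L),
      Nonempty (R' →ₐ[k] L) := by
    letI := Ideal.Quotient.field m
    exact ⟨AlgebraicClosure (R' ⧸ m), inferInstance, inferInstance, inferInstance,
      ⟨(IsScalarTower.toAlgHom k (R' ⧸ m) _).comp (Ideal.Quotient.mkₐ k m)⟩⟩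
  haveI : Algebra.FinitePresentation k C := Algebra.FinitePresentation.of_finiteType.1 inferInstance
  haveI : Algebra.Smooth k C := ⟨inferInstance, inferInstance⟩
  haveI : Algebra.Smooth L (L ⊗[k] C) := inferInstance
  haveI : _root_.IsReduced (L ⊗[k] C) := SmoothReduced.isReduced_of_smooth L _
  have hcL := connected_baseChange (k := k) (C := C) L hconn
  haveI : IsDomain (L ⊗[k] C) := LinRed.isDomain_of_connected (k := L) hcL
  have hUL : HopfRep.IsUnipotent L (L ⊗[k] C) := (HopfUnip.isUnipotent_baseChange_iff L).1 hU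
  have hgl : ∀ χ : L ⊗[k] C, IsGroupLikeElem L χ → χ = 1 := by
    intro χ hχ
    letI := HopfRep.Comod.regular L (L ⊗[k] C)
    have hW := HopfUnip.isUnipotent_iff_isWeighted.1 hUL
    have hsub : HopfRep.IsSubcomod (k := L) (A := L ⊗[k] C) (L ∙ χ) := by
      intro w hw
      obtain ⟨c, rfl⟩ := Submodule.mem_span_singleton.1 hw
      refine ⟨(⟨c • χ, hw⟩ : L ∙ χ) ⊗ₜ[L] χ, ?_⟩
      rw [map_smul, show HopfRep.Comod.coact (k := L) (A := L ⊗[k] C) χ = χ ⊗ₜ[L] χ from hχ.comul_eq_tmul_self]
      simp [TensorProduct.smul_tmul']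
    obtain ⟨v, hv, hv0, g, hg, hvg⟩ := HopfUnip.exists_eigvec_mem (S := {1})
      (fun g hg => by rw [Set.mem_singleton_iff.1 hg]; exact IsGroupLikeElem.one) hsub
      (by simpa using hχ.ne_zero) (by rw [hW]; exact le_top)
    obtain rfl := Set.mem_singleton_iff.1 hg
    obtain ⟨c, rfl⟩ := Submodule.mem_span_singleton.1 hv
    have hc : c ≠ 0 := fun h => hv0 (by simp [h])
    have h2 : c • (χ ⊗ₜ[L] χ) = c • (χ ⊗ₜ[L] (1 : L ⊗[k] C)) := by
      rw [← hχ.comul_eq_tmul_self, TensorProduct.smul_tmul', ← hvg, map_smul]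
      rfl
    have h3 : χ ⊗ₜ[L] χ = χ ⊗ₜ[L] (1 : L ⊗[k] C) := by
      simpa [smul_smul, hc] using congrArg (fun z => c⁻¹ • z) h2
    simpa [hχ.counit_eq_one] using congrArg (Comod.slL (k := L) (Coalgebra.counit (R := L) (A := L ⊗[k] C))) h3
  let fL : L ⊗[k] B →ₐ[L] L ⊗[k] C := Algebra.TensorProduct.map (AlgHom.id L L) f
  let j : R' ⊗[k] B →ₐ[k] L ⊗[k] B := Algebra.TensorProduct.map q (AlgHom.id k B)
  have key : ∀ x : R' ⊗[k] B, fL (j x) =
      algebraMap L (L ⊗[k] C) (Coalgebra.counit (R := L) (fL (j x))) := by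
    intro x
    obtain ⟨y, rfl⟩ : ∃ y, e.symm y = x := ⟨e x, e.symm_apply_apply x⟩
    induction y using MonoidAlgebra.induction_on with
    | of g =>
      have hu : IsUnit (fL (j (e.symm (MonoidAlgebra.of R' M g)))) := by
        exact ((((Group.isUnit g).map (MonoidAlgebra.of R' M)).map e.symm).map j).map fL
      obtain ⟨χ, hχ, hχu⟩ := LinRed.exists_groupLike_smul_eq (k := L) hu
      conv_lhs => rw [hχu, hgl χ hχ]
      rw [Algebra.algebraMap_eq_smul_one]
    | add p p' hp hp' =>
      simp only [map_add]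
      exact congrArg₂ (· + ·) hp hp'
    | smul r p hp =>
      have e1 : fL (j (e.symm (r • p))) = q r • fL (j (e.symm p)) := by
        rw [Algebra.smul_def, map_mul, map_mul, map_mul, Algebra.smul_def]
        congr 1
        rw [AlgHomClass.commutes e.symm r]
        simp [j, fL, Algebra.TensorProduct.algebraMap_apply]
      rw [e1, map_smul, smul_eq_mul, map_mul, ← hp, Algebra.smul_def]
  have h1 := key (1 ⊗ₜ[k] b)
  have h2 : fL (j (1 ⊗ₜ[k] b)) = (1 : L) ⊗ₜ[k] f b := by simp [fL, j]
  rw [h2] at h1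
  refine Algebra.TensorProduct.includeRight_injective (R := k) (A := L) (RingHom.injective _) ?_
  show (1 : L) ⊗ₜ[k] f b = (1 : L) ⊗ₜ[k] algebraMap k C (Bialgebra.counitAlgHom k C (f b))
  rw [h1, Algebra.algebraMap_eq_smul_one (R := k) (A := C), TensorProduct.tmul_smul, TensorProduct.smul_tmul']
  simp [TensorProduct.counit_tmul, Algebra.smul_def, Algebra.TensorProduct.algebraMap_apply]

end Groth.Agent.UnipConst
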